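import Groth.Agent.CurvesA.DivCls
import Groth.Prelude.Def_EtCore

/-!
# `H¹(X, μ_n)` as pairs (divisor, rational function)

For an integral Dedekind scheme `X` with `n : G_m ⟶ G_m` an epimorphism of étale sheaves and `H¹(X, j_*G_m) = 0`,
`H¹(X, μ_n)` is the group of pairs `(D, f)` with `n·D = div f` modulo the pairs `(div h, h^n)`.
-/

set_option autoImplicit false
set_option linter.unusedSectionVars false
universe u

open CategoryTheory CategoryTheory.Limits AlgebraicGeometry Opposite

noncomputable section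

namespace K869.KumSeq

open Groth.Agent.CurvesA Groth.Agent.CurvesA.DivPoint Groth.Agent.CurvesA.DivSheaf Groth.Agent.CurvesA.DivTop
  Groth.Agent.CurvesA.RatSec Groth.Agent.CurvesA.OrdMap Groth.Agent.CurvesA.GmFunct

variable (X : Scheme.{u}) [IsIntegral X] (n : ℕ)

/-- the sheaf of pairs `(d, f)` with `n d = div f` -/
def PS : EtCoh.Ab X := pullback (n • 𝟙 (D X)) (dv X)

/-- divisor of a pair -/
def pfst : PS X n ⟶ D X := pullback.fst _ _

/-- function of a pair -/
def psnd : PS X n ⟶ jGm X := pullback.snd _ _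

theorem isPullback : IsPullback (pfst X n) (psnd X n) (n • 𝟙 (D X)) (dv X) :=
  IsPullback.of_hasPullback _ _

/-- `h ↦ (div h, n h)` -/
def am : jGm X ⟶ PS X n :=
  (isPullback X n).lift (dv X) (n • 𝟙 (jGm X)) (by simp)

theorem am_fst : am X n ≫ pfst X n = dv X := (isPullback X n).lift_fst _ _ _

theorem am_snd : am X n ≫ psnd X n = n • 𝟙 (jGm X) := (isPullback X n).lift_snd _ _ _

/-- `μ_n ⟶ j_* G_m` -/
def im : EtCoh.mu X n ⟶ jGm X := EtCoh.muι X n ≫ gmMap (j X)

theorem muι_nsmul : n • EtCoh.muι X n = 0 := by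
  have h : EtCoh.muι X n ≫ EtCoh.powMap X n = 0 := kernel.condition _
  rw [EtCoh.powMap, Preadditive.comp_nsmul, Category.comp_id] at h
  exact h

theorem im_am : im X n ≫ am X n = 0 := by
  apply (isPullback X n).hom_ext
  · rw [Category.assoc, am_fst, im, Category.assoc, gmMap_dv, comp_zero, zero_comp]
  · rw [Category.assoc, am_snd, im, Preadditive.comp_nsmul, Category.comp_id, ← Preadditive.nsmul_comp, muι_nsmul,
      zero_comp, zero_comp]

variable [IsLocallyNoetherian X]

/-- `0 → μ_n → j_* G_m → pairs → 0` -/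
def kseq : ShortComplex (EtCoh.Ab X) := ShortComplex.mk (im X n) (am X n) (im_am X n)

variable {X}

/-- lifting along the inclusion `G_m ⟶ j_* G_m` -/
theorem exists_lift_gm (hX : IsDed X) {T : EtCoh.Ab X} (t : T ⟶ jGm X) (ht : t ≫ dv X = 0) :
    ∃ s : T ⟶ EtCoh.Gm X, s ≫ gmMap (j X) = t := by
  have h1 := seq_shortExact hX
  have : Mono (seq X).f := h1.mono_f
  exact ⟨h1.exact.lift t ht, h1.exact.lift_f t ht⟩

theorem mono_im (hX : IsDed X) : Mono (im X n) := by
  have h1 : Mono (gmMap (j X)) := mono_gmMap hX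
  have h2 : Mono (EtCoh.muι X n) := inferInstanceAs (Mono (kernel.ι _))
  exact mono_comp _ _

theorem exists_lift_mu (hX : IsDed X) {T : EtCoh.Ab X} (t : T ⟶ jGm X) (ht : t ≫ am X n = 0) :
    ∃ s : T ⟶ EtCoh.mu X n, s ≫ im X n = t := by
  have h1 : Mono (gmMap (j X)) := mono_gmMap hX
  have e1 : t ≫ dv X = 0 := by rw [← am_fst X n, ← Category.assoc, ht, zero_comp]
  have e2 : n • t = 0 := by
    have h := congrArg (· ≫ psnd X n) ht
    simp only [Category.assoc, am_snd, zero_comp, Preadditive.comp_nsmul, Category.comp_id] at h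
    exact h
  obtain ⟨s, hs⟩ := exists_lift_gm hX t e1
  have e3 : s ≫ EtCoh.powMap X n = 0 := by
    rw [← cancel_mono (gmMap (j X)), EtCoh.powMap, Preadditive.comp_nsmul, Category.comp_id, Preadditive.nsmul_comp,
      hs, e2, zero_comp]
  obtain ⟨r, hr⟩ : ∃ r : T ⟶ EtCoh.mu X n, r ≫ EtCoh.muι X n = s := ⟨kernel.lift _ s e3, kernel.lift_ι _ _ _⟩
  refine ⟨r, ?_⟩
  rw [im, ← Category.assoc, hr, hs]

theorem exact_kseq (hX : IsDed X) : (kseq X n).Exact := by
  rw [ShortComplex.exact_iff_exact_up_to_refinements]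
  intro A x₂ hx₂
  obtain ⟨s, hs⟩ := exists_lift_mu n hX x₂ hx₂
  exact ⟨A, 𝟙 A, inferInstance, s, by rw [Category.id_comp]; exact hs.symm⟩

theorem epi_am (hX : IsDed X) (hn : Epi (EtCoh.powMap X n)) : Epi (am X n) := by
  rw [epi_iff_surjective_up_to_refinements]
  intro A y
  have h0 : Epi (dv X) := inferInstance
  obtain ⟨A₁, π₁, hπ₁, g, hg⟩ := surjective_up_to_refinements_of_epi (dv X) (y ≫ pfst X n)
  have e1 : (π₁ ≫ y ≫ psnd X n - n • g) ≫ dv X = 0 := by
    have hw := (isPullback X n).w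
    rw [Preadditive.sub_comp, Preadditive.nsmul_comp, ← hg, Category.assoc, Category.assoc, ← hw]
    simp
  obtain ⟨u, hu⟩ := exists_lift_gm hX _ e1
  obtain ⟨A₂, π₂, hπ₂, v, hv⟩ := surjective_up_to_refinements_of_epi (EtCoh.powMap X n) u
  refine ⟨A₂, π₂ ≫ π₁, epi_comp _ _, π₂ ≫ g + v ≫ gmMap (j X), ?_⟩
  apply (isPullback X n).hom_ext
  · rw [Category.assoc, Category.assoc, Category.assoc, am_fst, Preadditive.add_comp, Category.assoc, ← hg,
      Category.assoc, gmMap_dv, comp_zero, add_zero]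
  · have h5 : n • v = π₂ ≫ u := by
      rw [hv, EtCoh.powMap, Preadditive.comp_nsmul, Category.comp_id]
    have h6 : n • (v ≫ gmMap (j X)) = π₂ ≫ (π₁ ≫ y ≫ psnd X n - n • g) := by
      rw [← Preadditive.nsmul_comp, h5, Category.assoc, hu]
    rw [Category.assoc, Category.assoc, Category.assoc, am_snd, Preadditive.comp_nsmul, Category.comp_id, nsmul_add,
      h6, Preadditive.comp_sub, Preadditive.comp_nsmul]
    abel

theorem shortExact_kseq (hX : IsDed X) (hn : Epi (EtCoh.powMap X n)) : (kseq X n).ShortExact :=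
  { exact := exact_kseq n hX
    mono_f := mono_im n hX
    epi_g := epi_am n hX hn }

/-- global sections -/
def Γs : EtCoh.Ab X ⥤ AddCommGrpCat.{u + 1} :=
  sheafToPresheaf _ _ ⋙ (evaluation _ _).obj (op (EtCoh.top X))

instance : PreservesFiniteLimits (Γs (X := X)) := by
  unfold Γs
  infer_instance

instance : (Γs (X := X)).Additive where
  map_add := rfl

theorem nsmul_app {F : EtCoh.Ab X} (x : EtCoh.sect F (EtCoh.top X)) :
    ((n • 𝟙 F : F ⟶ F).hom.app (op (EtCoh.top X))).hom x = n • x := by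
  have h1 : (Γs (X := X)).map (n • 𝟙 F) = n • 𝟙 _ := by
    rw [Functor.map_nsmul, CategoryTheory.Functor.map_id]
  exact congrArg (fun f => f.hom x) h1

/-- pairs as sections -/
theorem exists_pair (d : EtCoh.sect (D X) (EtCoh.top X)) (f : EtCoh.sect (jGm X) (EtCoh.top X))
    (h : n • d = ((dv X).hom.app (op (EtCoh.top X))).hom f) :
    ∃ p : EtCoh.sect (PS X n) (EtCoh.top X), ((pfst X n).hom.app (op (EtCoh.top X))).hom p = d ∧
      ((psnd X n).hom.app (op (EtCoh.top X))).hom p = f := by
  have hp := ((isPullback X n).map (Γs (X := X))).map (forget AddCommGrpCat.{u + 1})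
  refine Types.exists_of_isPullback hp d f ?_
  refine Eq.trans ?_ h
  exact nsmul_app n d

theorem pair_ext {p q : EtCoh.sect (PS X n) (EtCoh.top X)}
    (h1 : ((pfst X n).hom.app (op (EtCoh.top X))).hom p = ((pfst X n).hom.app (op (EtCoh.top X))).hom q)
    (h2 : ((psnd X n).hom.app (op (EtCoh.top X))).hom p = ((psnd X n).hom.app (op (EtCoh.top X))).hom q) : p = q := by
  have hp := ((isPullback X n).map (Γs (X := X))).map (forget AddCommGrpCat.{u + 1})
  exact Types.ext_of_isPullback hp h1 h2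

/-- Compatibility of the components of `am` on sections. -/
theorem pfst_am (x : EtCoh.sect (jGm X) (EtCoh.top X)) :
    ((pfst X n).hom.app (op (EtCoh.top X))).hom (((am X n).hom.app (op (EtCoh.top X))).hom x) =
      ((dv X).hom.app (op (EtCoh.top X))).hom x :=
  congrArg (fun φ : jGm X ⟶ D X => (φ.hom.app (op (EtCoh.top X))).hom x) (am_fst X n)

theorem psnd_am (x : EtCoh.sect (jGm X) (EtCoh.top X)) :
    ((psnd X n).hom.app (op (EtCoh.top X))).hom (((am X n).hom.app (op (EtCoh.top X))).hom x) = n • x :=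
  (congrArg (fun φ : jGm X ⟶ jGm X => (φ.hom.app (op (EtCoh.top X))).hom x) (am_snd X n)).trans (nsmul_app n x)

theorem pair_rel (p : EtCoh.sect (PS X n) (EtCoh.top X)) :
    n • ((pfst X n).hom.app (op (EtCoh.top X))).hom p =
      ((dv X).hom.app (op (EtCoh.top X))).hom (((psnd X n).hom.app (op (EtCoh.top X))).hom p) :=
  (nsmul_app n _).symm.trans
    (congrArg (fun φ : PS X n ⟶ D X => (φ.hom.app (op (EtCoh.top X))).hom p) (isPullback X n).w)

variable [CompactSpace X] (hX : IsDed X)

/-- **`H¹(X, μ_n)` as pairs**: for an additive group `A` with maps `δ` to the divisors and `φ` to the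
rational functions such that `n δ(a) = div φ(a)`, jointly injective and onto the pairs. -/
theorem exists_equiv (hn : Epi (EtCoh.powMap X n)) (hH : Subsingleton (EtCoh.H X (jGm X) 1))
    {A : Type*} [AddCommGroup A] (δ : A →+ ({x : X // x ≠ genericPoint X} →₀ ℤ))
    (φ : A →+ Additive (X.functionField)ˣ) (h : ∀ a, n • δ a = div hX (φ a))
    (hsurj : ∀ (E : {x : X // x ≠ genericPoint X} →₀ ℤ) (f : Additive (X.functionField)ˣ), n • E = div hX f →
      ∃ a, δ a = E ∧ φ a = f) :
    ∃ Φ : A →+ EtCoh.H X (EtCoh.mu X n) 1, Function.Surjective Φ ∧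
      ∀ a, Φ a = 0 ↔ ∃ g : Additive (X.functionField)ˣ, δ a = div hX g ∧ φ a = n • g := by
  have hex : ∀ a : A, ∃ p : EtCoh.sect (PS X n) (EtCoh.top X),
      ((pfst X n).hom.app (op (EtCoh.top X))).hom p = (divEquiv hX).symm (δ a) ∧
      ((psnd X n).hom.app (op (EtCoh.top X))).hom p = ratEquiv X (φ a) := by
    intro a
    apply exists_pair
    apply (divEquiv hX).injective
    rw [map_nsmul, AddEquiv.apply_symm_apply, h a]
    rfl
  choose p hp1 hp2 using hex
  let P : A →+ EtCoh.sect (PS X n) (EtCoh.top X) :=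
    { toFun := p
      map_zero' := by
        apply pair_ext
        · rw [hp1, map_zero, map_zero, map_zero]
        · rw [hp2, map_zero, map_zero, map_zero]
      map_add' := fun a b => by
        apply pair_ext
        · rw [map_add, hp1, hp1, hp1, map_add, map_add]
        · rw [map_add, hp2, hp2, hp2, map_add, map_add] }
  have hPs : Function.Surjective P := by
    intro q
    obtain ⟨a, ha1, ha2⟩ := hsurj (divEquiv hX (((pfst X n).hom.app (op (EtCoh.top X))).hom q))
      ((ratEquiv X).symm (((psnd X n).hom.app (op (EtCoh.top X))).hom q)) (by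
        rw [← map_nsmul, pair_rel n q]
        change _ = divEquiv hX (((dv X).hom.app (op (EtCoh.top X))).hom (ratEquiv X ((ratEquiv X).symm _)))
        rw [AddEquiv.apply_symm_apply])
    refine ⟨a, ?_⟩
    apply pair_ext
    · refine (hp1 a).trans ?_
      rw [ha1, AddEquiv.symm_apply_apply]
    · refine (hp2 a).trans ?_
      rw [ha2, AddEquiv.apply_symm_apply]
  have hS := shortExact_kseq n hX hn
  have hH' : Subsingleton (EtCoh.H X (kseq X n).X₂ 1) := hH
  refine ⟨(BdMap.bd hS).comp P, (BdMap.bd_surjective hS).comp hPs, fun a => ?_⟩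
  refine (BdMap.bd_eq_zero_iff hS (P a)).trans ?_
  constructor
  · rintro ⟨t', ht⟩
    obtain ⟨t, ht'⟩ : ∃ t : EtCoh.sect (jGm X) (EtCoh.top X),
      ((am X n).hom.app (op (EtCoh.top X))).hom t = p a := ⟨t', ht⟩
    refine ⟨(ratEquiv X).symm t, ?_, ?_⟩
    · apply (divEquiv hX).symm.injective
      rw [← hp1, ← ht', pfst_am]
      have e : div hX ((ratEquiv X).symm t) =
        divEquiv hX (((dv X).hom.app (op (EtCoh.top X))).hom ((ratEquiv X) ((ratEquiv X).symm t))) := rfl
      rw [e, AddEquiv.apply_symm_apply, AddEquiv.symm_apply_apply]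
    · apply (ratEquiv X).injective
      rw [← hp2, ← ht', psnd_am, map_nsmul, AddEquiv.apply_symm_apply]
  · rintro ⟨g, hg1, hg2⟩
    refine ⟨ratEquiv X g, ?_⟩
    change ((am X n).hom.app (op (EtCoh.top X))).hom (ratEquiv X g) = p a
    apply pair_ext
    · rw [pfst_am, hp1, hg1]
      apply (divEquiv hX).injective
      rw [AddEquiv.apply_symm_apply]
      rfl
    · rw [psnd_am, hp2, hg2, map_nsmul]

end K869.KumSeq
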